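import Groth.Agent.ChevalleyPIDLib.Subcomod
import Groth.Agent.CauchyBinetLib.Basic

/-! Matrix corepresentations: coefficients of a free subcomodule, antipode, minors. -/

set_option autoImplicit false
universe u v w

open TensorProduct

namespace Groth.Agent.ChevalleyPID

variable {V : Type u} [CommRing V] {A : Type v} [CommRing A] [HopfAlgebra V A]

/-- A multiplicative matrix. -/
def IsCorep {ι : Type*} [Fintype ι] [DecidableEq ι] (a : Matrix ι ι A) : Prop :=
  (∀ i j, CoalgebraStruct.comul (R := V) (a i j) = ∑ l, a i l ⊗ₜ[V] a l j) ∧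
    ∀ i j, CoalgebraStruct.counit (R := V) (a i j) = if i = j then 1 else 0

theorem IsCorep.antipode_mul {ι : Type*} [Fintype ι] [DecidableEq ι] {a : Matrix ι ι A}
    (h : IsCorep (V := V) a) : a.map (HopfAlgebra.antipode V) * a = 1 := by
  ext i j
  have := HopfAlgebra.mul_antipode_rTensor_comul_apply (R := V) (a i j)
  rw [h.1, h.2] at this
  simp only [map_sum, LinearMap.rTensor_tmul, LinearMap.mul'_apply] at this
  rw [Matrix.mul_apply, Matrix.one_apply]
  simp only [Matrix.map_apply]
  rw [this]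
  split_ifs <;> simp

theorem exists_corep [Module.Flat V A] {ι : Type*} [Fintype ι] [DecidableEq ι] {x : ι → A}
    (hx : LinearIndependent V x)
    (hcom : ∀ w ∈ Submodule.span V (Set.range x), CoalgebraStruct.comul (R := V) w ∈
      LinearMap.range ((Submodule.span V (Set.range x)).subtype.rTensor A)) :
    ∃ C : Matrix ι ι A, IsCorep (V := V) C ∧
      (∀ j, CoalgebraStruct.comul (R := V) (x j) = ∑ i, x i ⊗ₜ[V] C i j) ∧
      ∀ j, x j = ∑ i, CoalgebraStruct.counit (R := V) (x i) • C i j := by
  classical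
  have hex : ∀ j, ∃ c : ι → A, CoalgebraStruct.comul (R := V) (x j) = ∑ i, x i ⊗ₜ[V] c i := by
    intro j
    obtain ⟨z, hz⟩ := hcom (x j) (Submodule.subset_span ⟨j, rfl⟩)
    rw [← hz]
    clear hz
    induction z with
    | zero => exact ⟨0, by simp⟩
    | add p q hp hq =>
      obtain ⟨c, hc⟩ := hp
      obtain ⟨d, hd⟩ := hq
      exact ⟨c + d, by rw [map_add, hc, hd, ← Finset.sum_add_distrib]; simp [TensorProduct.tmul_add]⟩
    | tmul p a =>
      obtain ⟨e, he⟩ := (Submodule.mem_span_range_iff_exists_fun V).1 p.2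
      refine ⟨fun i => e i • a, ?_⟩
      rw [LinearMap.rTensor_tmul, Submodule.subtype_apply, ← he, TensorProduct.sum_tmul]
      simp [TensorProduct.smul_tmul]
  choose c hc using hex
  refine ⟨Matrix.of fun i j => c j i, ⟨fun i j => ?_, fun i j => ?_⟩, hc, fun j => ?_⟩
  · have h0 := LinearMap.congr_fun (Coalgebra.coassoc (R := V) (A := A)) (x j)
    simp only [LinearMap.comp_apply, LinearEquiv.coe_coe, hc, map_sum, LinearMap.rTensor_tmul,
      LinearMap.lTensor_tmul, TensorProduct.sum_tmul, TensorProduct.assoc_tmul] at h0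
    rw [Finset.sum_comm] at h0
    have h1 : ∑ i, x i ⊗ₜ[V] (CoalgebraStruct.comul (R := V) (c j i) - ∑ l, c l i ⊗ₜ[V] c j l) = 0 := by
      simp only [TensorProduct.tmul_sub, TensorProduct.tmul_sum, Finset.sum_sub_distrib]
      rw [h0, sub_self]
    exact sub_eq_zero.1 (congrFun (eq_zero_of_sum_tmul hx h1) i)
  · have h0 := LinearMap.congr_fun (Coalgebra.lTensor_counit_comp_comul (R := V) (A := A)) (x j)
    simp only [LinearMap.comp_apply, hc, map_sum, LinearMap.lTensor_tmul] at h0
    have h1 : ∑ l, (CoalgebraStruct.counit (R := V) (c j l) - if l = j then 1 else 0) • x l = 0 := by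
      have := congrArg (TensorProduct.rid V A) h0
      simp only [map_sum, TensorProduct.rid_tmul, LinearMap.flip_apply, TensorProduct.mk_apply,
        one_smul] at this
      simp only [sub_smul, Finset.sum_sub_distrib, this, ite_smul, one_smul, zero_smul,
        Finset.sum_ite_eq', Finset.mem_univ, if_true, sub_self]
    exact sub_eq_zero.1 (Fintype.linearIndependent_iff.1 hx _ h1 i)
  · have h0 := LinearMap.congr_fun (Coalgebra.rTensor_counit_comp_comul (R := V) (A := A)) (x j)
    simp only [LinearMap.comp_apply, hc, map_sum, LinearMap.rTensor_tmul] at h0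
    have := congrArg (TensorProduct.lid V A) h0
    simp only [map_sum, TensorProduct.lid_tmul, TensorProduct.mk_apply, one_smul] at this
    exact this.symm

/-- The index set of minors. -/
abbrev Sub (n r : ℕ) := {s : Finset (Fin n) // s.card = r}

/-- The matrix of minors. -/
noncomputable def minors {n : ℕ} (r : ℕ) (C : Matrix (Fin n) (Fin n) A) : Matrix (Sub n r) (Sub n r) A :=
  Matrix.of fun K L => (C.submatrix (K.1.orderEmbOfFin K.2) (L.1.orderEmbOfFin L.2)).det

theorem IsCorep.minors {n : ℕ} (r : ℕ) {C : Matrix (Fin n) (Fin n) A} (h : IsCorep (V := V) C) :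
    IsCorep (V := V) (ChevalleyPID.minors r C) := by
  classical
  refine ⟨fun K L => ?_, fun K L => ?_⟩
  · let iL : A →ₐ[V] A ⊗[V] A := Algebra.TensorProduct.includeLeft
    let iR : A →ₐ[V] A ⊗[V] A := Algebra.TensorProduct.includeRight
    show Bialgebra.comulAlgHom V A (Matrix.det _) = _
    rw [AlgHom.map_det]
    have hm : (Bialgebra.comulAlgHom V A).mapMatrix (C.submatrix (K.1.orderEmbOfFin K.2) (L.1.orderEmbOfFin L.2)) =
        (C.map iL).submatrix (K.1.orderEmbOfFin K.2) id * (C.map iR).submatrix id (L.1.orderEmbOfFin L.2) := by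
      ext p q
      simp only [AlgHom.mapMatrix_apply, Matrix.map_apply, Matrix.submatrix_apply, Matrix.mul_apply, id,
        Bialgebra.comulAlgHom_apply, h.1]
      simp [iL, iR, Algebra.TensorProduct.tmul_mul_tmul]
    rw [hm, CauchyBinetLib.det_mul_eq_sum]
    refine Finset.sum_congr rfl fun M _ => ?_
    simp only [Matrix.submatrix_submatrix, Function.comp_id, Function.id_comp]
    rw [Matrix.submatrix_map, Matrix.submatrix_map,
      ← AlgHom.mapMatrix_apply, ← AlgHom.mapMatrix_apply, ← AlgHom.map_det, ← AlgHom.map_det]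
    simp [iL, iR, Algebra.TensorProduct.tmul_mul_tmul, ChevalleyPID.minors]
  · show Bialgebra.counitAlgHom V A (Matrix.det _) = _
    rw [AlgHom.map_det]
    have hm : (Bialgebra.counitAlgHom V A).mapMatrix (C.submatrix (K.1.orderEmbOfFin K.2) (L.1.orderEmbOfFin L.2)) =
        (1 : Matrix (Fin n) (Fin n) V).submatrix (K.1.orderEmbOfFin K.2) (L.1.orderEmbOfFin L.2) := by
      ext p q
      simp [Matrix.one_apply, h.2]
    rw [hm]
    by_cases hKL : K = L
    · subst hKL
      rw [Matrix.submatrix_one _ (K.1.orderEmbOfFin K.2).injective, Matrix.det_one, if_pos rfl]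
    · rw [if_neg hKL]
      obtain ⟨i, hiK, hiL⟩ : ∃ i ∈ K.1, i ∉ L.1 := by
        by_contra hc
        push Not at hc
        exact hKL (Subtype.ext (Finset.eq_of_subset_of_card_le hc (by rw [K.2, L.2])))
      obtain ⟨p, hp⟩ : ∃ p, K.1.orderEmbOfFin K.2 p = i := by
        rw [← Set.mem_range, Finset.range_orderEmbOfFin]; exact hiK
      refine Matrix.det_eq_zero_of_row_eq_zero p fun q => ?_
      rw [Matrix.submatrix_apply, hp, Matrix.one_apply_ne]
      exact fun e => hiL (e ▸ Finset.orderEmbOfFin_mem _ _ q)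

theorem IsCorep.fromBlocks {ι κ : Type*} [Fintype ι] [DecidableEq ι] [Fintype κ] [DecidableEq κ]
    {a : Matrix ι ι A} {b : Matrix κ κ A} (ha : IsCorep (V := V) a) (hb : IsCorep (V := V) b) :
    IsCorep (V := V) (Matrix.fromBlocks a 0 0 b) := by
  refine ⟨?_, ?_⟩
  · rintro (i | i) (j | j) <;> simp [Fintype.sum_sum_type, ha.1, hb.1]
  · rintro (i | i) (j | j) <;> simp [ha.2, hb.2]

theorem IsCorep.reindex {ι κ : Type*} [Fintype ι] [DecidableEq ι] [Fintype κ] [DecidableEq κ]
    (e : ι ≃ κ) {a : Matrix ι ι A} (ha : IsCorep (V := V) a) : IsCorep (V := V) (Matrix.reindex e e a) := by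
  refine ⟨fun i j => ?_, fun i j => ?_⟩
  · simp only [Matrix.reindex_apply, Matrix.submatrix_apply, ha.1]
    exact (Equiv.sum_comp e.symm (fun l => a (e.symm i) l ⊗ₜ[V] a l (e.symm j))).symm
  · simp [ha.2]

end Groth.Agent.ChevalleyPID
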