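import Groth.Agent.ChevalleyPIDLib.Corep

/-! Chevalley's theorem over a principal ideal domain: a flat closed subgroup is a line stabiliser. -/

set_option autoImplicit false
universe u v w

open TensorProduct

namespace Groth.Agent.ChevalleyPID

variable {V : Type u} [CommRing V] {A : Type v} [CommRing A]

theorem det_submatrix_mem {n r : ℕ} (C : Matrix (Fin n) (Fin n) A) (K0 : Sub n r) (J : Ideal A)
    (hJ : ∀ K : Sub n r, K ≠ K0 → minors r C K K0 ∈ J) (f : Fin r → Fin n) (hf : Function.Injective f)
    (hne : ∃ p, f p ∉ K0.1) : (C.submatrix f (K0.1.orderEmbOfFin K0.2)).det ∈ J := by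
  classical
  let K : Sub n r := ⟨Finset.univ.image f, by simp [Finset.card_image_of_injective _ hf]⟩
  have hK : K ≠ K0 := fun h => by
    obtain ⟨p, hp⟩ := hne
    exact hp (h ▸ Finset.mem_image_of_mem f (Finset.mem_univ p))
  have hmem : ∀ p, f p ∈ K.1 := fun p => Finset.mem_image_of_mem f (Finset.mem_univ p)
  let σ : Fin r → Fin r := fun p => (K.1.orderIsoOfFin K.2).symm ⟨f p, hmem p⟩
  have hσ : Function.Bijective σ := Finite.injective_iff_bijective.1 fun a b hab =>
    hf (congrArg Subtype.val ((K.1.orderIsoOfFin K.2).symm.injective hab))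
  have hfσ : f = K.1.orderEmbOfFin K.2 ∘ Equiv.ofBijective σ hσ := funext fun p => by
    show f p = K.1.orderEmbOfFin K.2 (σ p)
    rw [← Finset.coe_orderIsoOfFin_apply]
    simp [σ]
  have : C.submatrix f (K0.1.orderEmbOfFin K0.2) =
      (C.submatrix (K.1.orderEmbOfFin K.2) (K0.1.orderEmbOfFin K0.2)).submatrix (Equiv.ofBijective σ hσ) id := by
    rw [Matrix.submatrix_submatrix, ← hfσ]
    rfl
  rw [this, Matrix.det_permute]
  exact J.mul_mem_left _ (hJ K hK)

/-- The ideal of the lower left block is generated by the non-principal minors of the first `r` columns. -/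
theorem span_minors_eq {r m : ℕ} (C D : Matrix (Fin (r + m)) (Fin (r + m)) A) (hD : D * C = 1)
    (K0 : Sub (r + m) r) (he : ⇑(K0.1.orderEmbOfFin K0.2) = Fin.castAdd m) :
    Ideal.span (Set.range fun p : Fin m × Fin r => C (Fin.natAdd r p.1) (Fin.castAdd m p.2)) =
      Ideal.span (Set.range fun K : {K : Sub (r + m) r // K ≠ K0} => minors r C K.1 K0) := by
  classical
  set J := Ideal.span (Set.range fun p : Fin m × Fin r => C (Fin.natAdd r p.1) (Fin.castAdd m p.2))
  set J0 := Ideal.span (Set.range fun K : {K : Sub (r + m) r // K ≠ K0} => minors r C K.1 K0)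
  have hK0mem : ∀ l, l ∈ K0.1 ↔ ∃ p : Fin r, Fin.castAdd m p = l := fun l => by
    rw [← he, ← Set.mem_range, Finset.range_orderEmbOfFin]; rfl
  have hJ0 : ∀ K : Sub (r + m) r, K ≠ K0 → minors r C K K0 ∈ J0 := fun K hK =>
    Ideal.subset_span ⟨⟨K, hK⟩, rfl⟩
  refine le_antisymm ?_ ?_
  · rw [Ideal.span_le]
    rintro _ ⟨⟨i, j⟩, rfl⟩
    set C00 := C.submatrix (Fin.castAdd m) (Fin.castAdd m : Fin r → _) with hC00
    set b : Fin r → A := fun q => C (Fin.natAdd r i) (Fin.castAdd m q) with hb
    -- the principal minor is a unit modulo `J0`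
    have h1 : 1 - (D.submatrix (Fin.castAdd m) (Fin.castAdd m : Fin r → _)).det * C00.det ∈ J0 := by
      have hprod : D.submatrix (Fin.castAdd m : Fin r → _) id * C.submatrix id (Fin.castAdd m : Fin r → _) = 1 := by
        rw [← Matrix.submatrix_mul _ _ _ _ _ Function.bijective_id, hD,
          Matrix.submatrix_one _ (Fin.castAdd_injective _ _)]
      have h := CauchyBinetLib.det_mul_eq_sum (D.submatrix (Fin.castAdd m : Fin r → _) id)
        (C.submatrix id (Fin.castAdd m : Fin r → _))
      rw [hprod, Matrix.det_one, ← Finset.add_sum_erase _ _ (Finset.mem_univ K0)] at h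
      simp only [Matrix.submatrix_submatrix, Function.comp_id, Function.id_comp] at h
      rw [he] at h
      rw [h, hC00]
      simp only [add_sub_cancel_left]
      refine Submodule.sum_mem _ fun K hK => J0.mul_mem_left _ ?_
      have := hJ0 K (Finset.ne_of_mem_erase hK)
      simp only [minors, Matrix.of_apply, he] at this
      exact this
    have h2 : C00.det * b j ∈ J0 := by
      have hcr := congrFun (Matrix.mulVec_cramer C00.transpose b) j
      rw [Matrix.det_transpose, Pi.smul_apply, smul_eq_mul] at hcr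
      rw [← hcr, Matrix.mulVec, dotProduct]
      refine Submodule.sum_mem _ fun l _ => J0.mul_mem_left _ ?_
      rw [Matrix.cramer_apply, Matrix.updateCol_transpose, Matrix.det_transpose]
      let f : Fin r → Fin (r + m) := Function.update (Fin.castAdd m) l (Fin.natAdd r i)
      have hne : ∀ p : Fin r, Fin.castAdd m p ≠ Fin.natAdd r i := fun p => by
        simp only [ne_eq, Fin.ext_iff, Fin.val_castAdd, Fin.val_natAdd]; omega
      have hf : Function.Injective f := by
        intro a b hab
        simp only [f, Function.update_apply] at hab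
        split_ifs at hab with ha hb hb
        · exact ha.trans hb.symm
        · exact absurd hab.symm (hne _)
        · exact absurd hab (hne _)
        · exact Fin.castAdd_injective _ _ hab
      have : C00.updateRow l b = C.submatrix f (K0.1.orderEmbOfFin K0.2) := by
        rw [he]
        ext p q
        by_cases hp : p = l
        · subst hp; simp [f, hb]
        · simp [f, hp, hC00]
      rw [this]
      refine det_submatrix_mem C K0 J0 hJ0 f hf ⟨l, ?_⟩
      rw [hK0mem]
      rintro ⟨p, hp⟩
      exact hne p (by rw [hp]; simp [f])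
    have := add_mem (J0.mul_mem_left (b j) h1)
      (J0.mul_mem_left (D.submatrix (Fin.castAdd m) (Fin.castAdd m : Fin r → _)).det h2)
    have e : b j * (1 - (D.submatrix (Fin.castAdd m) (Fin.castAdd m : Fin r → _)).det * C00.det) +
        (D.submatrix (Fin.castAdd m) (Fin.castAdd m : Fin r → _)).det * (C00.det * b j) =
        C (Fin.natAdd r i) (Fin.castAdd m j) := by
      simp only [hb]; ring
    rwa [e] at this
  · rw [Ideal.span_le]
    rintro _ ⟨⟨K, hK⟩, rfl⟩
    obtain ⟨l, hlK, hl⟩ : ∃ l ∈ K.1, l ∉ K0.1 := by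
      by_contra hc
      push Not at hc
      exact hK (Subtype.ext (Finset.eq_of_subset_of_card_le hc (by rw [K0.2, K.2])))
    obtain ⟨p, hp⟩ : ∃ p, K.1.orderEmbOfFin K.2 p = l := by
      rw [← Set.mem_range, Finset.range_orderEmbOfFin]; exact hlK
    have hli : ∃ i : Fin m, Fin.natAdd r i = l := by
      refine Fin.addCases (fun q hq => ?_) (fun q hq => ⟨q, rfl⟩) l hl
      exact absurd ((hK0mem _).2 ⟨q, rfl⟩) hq
    obtain ⟨i, hi⟩ := hli
    show minors r C K K0 ∈ J
    rw [← Ideal.Quotient.eq_zero_iff_mem, minors, Matrix.of_apply, RingHom.map_det]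
    refine Matrix.det_eq_zero_of_row_eq_zero p fun q => ?_
    rw [RingHom.mapMatrix_apply, Matrix.map_apply, Matrix.submatrix_apply, hp, he, ← hi,
      Ideal.Quotient.eq_zero_iff_mem]
    exact Ideal.subset_span ⟨(i, q), rfl⟩

variable [HopfAlgebra V A] {B : Type w} [CommRing B] [HopfAlgebra V B]

/-- A flat closed subgroup of a flat affine group of finite type over a PID is the stabiliser of a line in a
faithful representation. -/
theorem main [IsDomain V] [IsPrincipalIdealRing V] [Module.Flat V A] [Algebra.FiniteType V A]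
    [Module.Flat V B] (π : A →ₐc[V] B) (hπ : Function.Surjective π) :
    ∃ (d : ℕ) (hd : 0 < d) (a : Matrix (Fin d) (Fin d) A),
      (∀ i j, CoalgebraStruct.comul (R := V) (a i j) = ∑ l, a i l ⊗ₜ[V] a l j) ∧
      (∀ i j, CoalgebraStruct.counit (R := V) (a i j) = if i = j then 1 else 0) ∧
      (∃ u : A, u * a.det = 1 ∧
        Algebra.adjoin V (Set.range (fun p : Fin d × Fin d => a p.1 p.2) ∪ {u}) = ⊤) ∧
      RingHom.ker π = Ideal.span (Set.range (fun i : {i : Fin d // i ≠ ⟨0, hd⟩} => a i.1 ⟨0, hd⟩)) := by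
  classical
  haveI : IsNoetherianRing A := Algebra.FiniteType.isNoetherianRing V A
  obtain ⟨s, hs⟩ := (inferInstance : Algebra.FiniteType V A).out
  obtain ⟨t, ht⟩ := (IsNoetherian.noetherian (RingHom.ker π) : (RingHom.ker π).FG)
  obtain ⟨W, hWfg, hsW, hWc⟩ := exists_subcomod (V := V) A (s ∪ t)
  haveI : Module.Finite V W := Module.Finite.iff_fg.2 hWfg
  let π' : A →ₗ[V] B := (π : A →ₐ[V] B).toLinearMap
  let p : W →ₗ[V] B := π' ∘ₗ W.subtype
  obtain ⟨m, br⟩ := Module.basisOfFiniteTypeTorsionFree' (R := V) (M := LinearMap.range p)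
  obtain ⟨r, bk⟩ := Module.basisOfFiniteTypeTorsionFree' (R := V) (M := LinearMap.ker p)
  choose y hy using fun i => LinearMap.mem_range.1 (br i).2
  let x : Fin (r + m) → A := Fin.append (fun j => ((bk j : W) : A)) (fun i => (y i : A))
  have hxl : ∀ j, x (Fin.castAdd m j) = ((bk j : W) : A) := fun j => Fin.append_left _ _ j
  have hxr : ∀ i, x (Fin.natAdd r i) = (y i : A) := fun i => Fin.append_right _ _ i
  have hπl : ∀ j, π (x (Fin.castAdd m j)) = 0 := fun j => by rw [hxl]; exact (bk j).2
  have hπr : ∀ i, π (x (Fin.natAdd r i)) = br i := fun i => by rw [hxr]; exact hy i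
  have hbr : LinearIndependent V (fun i => ((br i : LinearMap.range p) : B)) :=
    br.linearIndependent.map' (LinearMap.range p).subtype (Submodule.ker_subtype _)
  have hx : LinearIndependent V x := by
    rw [Fintype.linearIndependent_iff]
    intro g hg
    have h1 := congrArg π' hg
    simp only [Fin.sum_univ_add, map_add, map_sum, map_smul, map_zero] at h1
    simp only [π', AlgHom.toLinearMap_apply, BialgHom.coe_toAlgHom, hπl, hπr, smul_zero,
      Finset.sum_const_zero, zero_add] at h1
    have h2 : ∀ i, g (Fin.natAdd r i) = 0 := Fintype.linearIndependent_iff.1 hbr _ h1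
    have h3 : ∀ j, g (Fin.castAdd m j) = 0 := by
      refine Fintype.linearIndependent_iff.1 bk.linearIndependent _ ?_
      apply Subtype.ext; apply Subtype.ext
      simpa [Fin.sum_univ_add, h2, hxl] using hg
    exact Fin.addCases h3 h2
  have hxW : Submodule.span V (Set.range x) = W := by
    refine le_antisymm (Submodule.span_le.2 ?_) fun w hw => ?_
    · rintro _ ⟨l, rfl⟩
      refine Fin.addCases (fun j => ?_) (fun i => ?_) l
      · rw [hxl]; exact (bk j : W).2
      · rw [hxr]; exact (y i).2
    · set c := br.repr ⟨p ⟨w, hw⟩, LinearMap.mem_range_self _ _⟩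
      have hz : (⟨w, hw⟩ - ∑ i, c i • y i : W) ∈ LinearMap.ker p := by
        rw [LinearMap.mem_ker, map_sub, map_sum, sub_eq_zero]
        simp only [map_smul, hy]
        have := congrArg Subtype.val (br.sum_repr ⟨p ⟨w, hw⟩, LinearMap.mem_range_self _ _⟩)
        simpa only [Submodule.coe_sum, Submodule.coe_smul] using this.symm
      have hz' := congrArg (fun z : LinearMap.ker p => ((z : W) : A)) (bk.sum_repr ⟨_, hz⟩)
      simp only [Submodule.coe_sum, Submodule.coe_smul] at hz'
      have hw' : w = (∑ i, c i • x (Fin.natAdd r i)) + ∑ j, bk.repr ⟨_, hz⟩ j • x (Fin.castAdd m j) := by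
        simp only [hxl, hxr, hz']
        simp [Submodule.coe_sum]
      rw [hw']
      exact add_mem (Submodule.sum_mem _ fun i _ => Submodule.smul_mem _ _ (Submodule.subset_span ⟨_, rfl⟩))
        (Submodule.sum_mem _ fun j _ => Submodule.smul_mem _ _ (Submodule.subset_span ⟨_, rfl⟩))
  obtain ⟨C, hC, hCx, hxC⟩ := exists_corep hx (by rw [hxW]; exact hWc)
  set J := Ideal.span (Set.range fun q : Fin m × Fin r => C (Fin.natAdd r q.1) (Fin.castAdd m q.2)) with hJ
  have hCπ : ∀ i j, π (C (Fin.natAdd r i) (Fin.castAdd m j)) = 0 := by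
    intro i j
    have h1 := CoalgHomClass.map_comp_comul_apply π (x (Fin.castAdd m j))
    rw [hπl, map_zero] at h1
    change TensorProduct.map π' π' (CoalgebraStruct.comul (R := V) (x (Fin.castAdd m j))) = 0 at h1
    rw [hCx] at h1
    simp only [Fin.sum_univ_add, map_add, map_sum, TensorProduct.map_tmul] at h1
    simp only [π', AlgHom.toLinearMap_apply, BialgHom.coe_toAlgHom, hπl, hπr, TensorProduct.zero_tmul,
      Finset.sum_const_zero, zero_add] at h1
    exact congrFun (eq_zero_of_sum_tmul hbr h1) i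
  have hker : RingHom.ker π = J := by
    refine le_antisymm ?_ (Ideal.span_le.2 ?_)
    · rw [← ht, Ideal.span_le]
      intro g hg
      have hgW : g ∈ W := hsW (Finset.mem_coe.2 (Finset.mem_union_right _ hg))
      have hgk : (⟨g, hgW⟩ : W) ∈ LinearMap.ker p := by
        have : g ∈ RingHom.ker π := ht ▸ Ideal.subset_span hg
        exact this
      have hz' := congrArg (fun z : LinearMap.ker p => ((z : W) : A)) (bk.sum_repr ⟨_, hgk⟩)
      simp only [Submodule.coe_sum, Submodule.coe_smul] at hz'
      rw [SetLike.mem_coe, ← hz']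
      refine Submodule.sum_mem _ fun j _ => Submodule.smul_of_tower_mem _ _ ?_
      rw [← hxl, hxC, Fin.sum_univ_add]
      refine add_mem (Submodule.sum_mem _ fun l _ => ?_) (Submodule.sum_mem _ fun i _ =>
        Submodule.smul_of_tower_mem _ _ (Ideal.subset_span ⟨(i, j), rfl⟩))
      have h0 : CoalgebraStruct.counit (R := V) (x (Fin.castAdd m l)) = 0 := by
        rw [← CoalgHomClass.counit_comp_apply π, hπl, map_zero]
      rw [h0, zero_smul]
      exact zero_mem _
    · rintro _ ⟨⟨i, j⟩, rfl⟩
      exact hCπ i j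
  -- minors
  let K0 : Sub (r + m) r := ⟨(Finset.univ : Finset (Fin r)).map (Fin.castAddEmb m), by simp⟩
  have he : ⇑(K0.1.orderEmbOfFin K0.2) = Fin.castAdd m :=
    (Finset.orderEmbOfFin_unique K0.2 (fun q => Finset.mem_map.2 ⟨q, Finset.mem_univ q, rfl⟩)
      (Fin.strictMono_castAdd m)).symm
  have hspan := span_minors_eq C _ hC.antipode_mul K0 he
  let ι := Sub (r + m) r ⊕ Fin (r + m)
  have hd : 0 < Fintype.card ι := Fintype.card_pos_iff.2 ⟨Sum.inl K0⟩
  let e : ι ≃ Fin (Fintype.card ι) :=
    (Fintype.equivFin ι).trans (Equiv.swap (Fintype.equivFin ι (Sum.inl K0)) ⟨0, hd⟩)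
  have he0 : e (Sum.inl K0) = ⟨0, hd⟩ := by simp [e]
  let M : Matrix ι ι A := Matrix.fromBlocks (minors r C) 0 0 C
  have hM : IsCorep (V := V) (Matrix.reindex e e M) := ((hC.minors r).fromBlocks hC).reindex e
  refine ⟨_, hd, Matrix.reindex e e M, hM.1, hM.2,
    ⟨((Matrix.reindex e e M).map (HopfAlgebra.antipode V)).det, ?_, ?_⟩, ?_⟩
  · exact ((Matrix.det_mul _ _).symm.trans (congrArg Matrix.det hM.antipode_mul)).trans Matrix.det_one
  · rw [eq_top_iff, ← hs, Algebra.adjoin_le_iff]
    intro g hg
    have hgW : g ∈ Submodule.span V (Set.range x) := hxW ▸ hsW (Finset.mem_coe.2 (Finset.mem_union_left _ hg))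
    rw [SetLike.mem_coe, ← Subalgebra.mem_toSubmodule]
    refine (Submodule.span_le.2 ?_ : Submodule.span V (Set.range x) ≤ _) hgW
    rintro _ ⟨j, rfl⟩
    rw [SetLike.mem_coe, hxC]
    refine Submodule.sum_mem _ fun l _ => Submodule.smul_mem _ _ ?_
    refine Algebra.subset_adjoin (Or.inl ⟨(e (Sum.inr l), e (Sum.inr j)), ?_⟩)
    simp [M]
  · rw [hker, hJ, hspan]
    refine le_antisymm (Ideal.span_le.2 ?_) (Ideal.span_le.2 ?_)
    · rintro _ ⟨⟨K, hK⟩, rfl⟩
      refine Ideal.subset_span ⟨⟨e (Sum.inl K), fun h => hK ?_⟩, ?_⟩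
      · exact Sum.inl.inj (e.injective (h.trans he0.symm))
      · show Matrix.reindex e e M (e (Sum.inl K)) ⟨0, hd⟩ = minors r C K K0
        rw [← he0]; simp [M]
    · rintro _ ⟨⟨i, hi⟩, rfl⟩
      obtain ⟨l, rfl⟩ := e.surjective i
      show Matrix.reindex e e M (e l) ⟨0, hd⟩ ∈ Ideal.span _
      rw [← he0]
      rcases l with K | l
      · have hK : K ≠ K0 := fun h => hi (by rw [h]; exact he0)
        refine Ideal.subset_span ⟨⟨K, hK⟩, ?_⟩
        simp [M]
      · simp [M]

end Groth.Agent.ChevalleyPID
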