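import Mathlib

/-! Finite subcomodules of a flat coalgebra and their coefficient matrices over a PID. -/

set_option autoImplicit false
universe u v w

open TensorProduct

namespace Groth.Agent.ChevalleyPID

variable {V : Type u} [CommRing V]

theorem eq_zero_of_sum_tmul {A : Type v} [AddCommGroup A] [Module V A] {N : Type w} [AddCommGroup N]
    [Module V N] [Module.Flat V N] {ι : Type*} [Fintype ι] {x : ι → A} (hx : LinearIndependent V x)
    {c : ι → N} (h : ∑ i, x i ⊗ₜ[V] c i = 0) : c = 0 := by
  classical
  have hf : Function.Injective (Fintype.linearCombination V x) := by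
    rw [← LinearMap.ker_eq_bot, LinearMap.ker_eq_bot']
    intro v hv
    exact funext (Fintype.linearIndependent_iff.1 hx v (by simpa [Fintype.linearCombination_apply] using hv))
  have hinj := Module.Flat.rTensor_preserves_injective_linearMap (M := N) _ hf
  have hz : ∑ i, (Pi.single i (1 : V) : ι → V) ⊗ₜ[V] c i = 0 := hinj (by
    simpa [map_sum, Fintype.linearCombination_apply_single] using h)
  funext i
  have := congrArg (fun z => TensorProduct.lid V N ((LinearMap.proj i : (ι → V) →ₗ[V] V).rTensor N z)) hz
  simpa [map_sum, Pi.single_apply] using this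

section Coalg

variable (A : Type v) [AddCommGroup A] [Module V A] [Coalgebra V A]

/-- Serre: every finite subset of a flat coalgebra over a Noetherian ring lies in a finite subcomodule. -/
theorem exists_subcomod [IsNoetherianRing V] [Module.Flat V A] (s : Finset A) :
    ∃ W : Submodule V A, W.FG ∧ (s : Set A) ⊆ W ∧
      ∀ w ∈ W, Coalgebra.comul (R := V) w ∈ LinearMap.range (W.subtype.rTensor A) := by
  classical
  let r : ∀ a : A, Coalgebra.Repr V a (A × A) := fun a => Coalgebra.Repr.arbitrary V a
  let F : Submodule V A := Submodule.span V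
    ((s.biUnion fun a => (r a).index.image (r a).left : Finset A) : Set A)
  have hF : F.FG := Submodule.fg_span (Finset.finite_toSet _)
  let f : A →ₗ[V] (A ⧸ F) ⊗[V] A := F.mkQ.rTensor A ∘ₗ Coalgebra.comul
  have hexF : ∀ z : A ⊗[V] A, F.mkQ.rTensor A z = 0 ↔ z ∈ LinearMap.range (F.subtype.rTensor A) :=
    rTensor_exact A (LinearMap.exact_subtype_mkQ F) F.mkQ_surjective
  have hEF : LinearMap.ker f ≤ F := by
    intro w hw
    obtain ⟨z, hz⟩ := (hexF _).1 (LinearMap.mem_ker.1 hw)
    have h1 := LinearMap.congr_fun (Coalgebra.lTensor_counit_comp_comul (R := V) (A := A)) w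
    simp only [LinearMap.comp_apply] at h1
    have h2 : w = F.subtype (TensorProduct.rid V F ((Coalgebra.counit (R := V) (A := A)).lTensor F z)) := by
      have h3 : ∀ z : F ⊗[V] A,
          TensorProduct.rid V A ((Coalgebra.counit (R := V) (A := A)).lTensor A (F.subtype.rTensor A z)) =
          F.subtype (TensorProduct.rid V F ((Coalgebra.counit (R := V) (A := A)).lTensor F z)) := by
        intro z
        induction z with
        | zero => simp
        | add p q hp hq => simp only [map_add, hp, hq]
        | tmul p q => simp
      rw [← h3, hz, h1]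
      simp
    rw [h2]
    exact Subtype.prop _
  refine ⟨LinearMap.ker f, hF.of_le hEF, ?_, ?_⟩
  · intro a ha
    rw [SetLike.mem_coe, LinearMap.mem_ker]
    simp only [f, LinearMap.comp_apply]
    rw [hexF, ← (r a).eq]
    refine Submodule.sum_mem _ fun i hi => ⟨⟨(r a).left i, Submodule.subset_span ?_⟩ ⊗ₜ (r a).right i, rfl⟩
    exact Finset.mem_coe.2 (Finset.mem_biUnion.2 ⟨a, ha, Finset.mem_image_of_mem _ hi⟩)
  · intro w hw
    refine ((Module.Flat.rTensor_exact A (LinearMap.exact_subtype_ker_map f)) _).1 ?_
    have hw' : F.mkQ.rTensor A (Coalgebra.comul (R := V) w) = 0 := hw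
    have h1 := LinearMap.congr_fun (Coalgebra.coassoc_symm (R := V) (A := A)) w
    simp only [LinearMap.comp_apply, LinearEquiv.coe_coe] at h1
    simp only [f, LinearMap.rTensor_comp, LinearMap.comp_apply]
    rw [← h1]
    have key : ∀ z : A ⊗[V] A, (F.mkQ.rTensor A).rTensor A
        ((TensorProduct.assoc V A A A).symm ((Coalgebra.comul (R := V) (A := A)).lTensor A z)) =
        (TensorProduct.assoc V (A ⧸ F) A A).symm
          ((Coalgebra.comul (R := V) (A := A)).lTensor (A ⧸ F) (F.mkQ.rTensor A z)) := by
      intro z
      induction z with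
      | zero => simp
      | add p q hp hq => simp only [map_add, hp, hq]
      | tmul p q =>
        simp only [LinearMap.lTensor_tmul, LinearMap.rTensor_tmul]
        generalize Coalgebra.comul (R := V) q = t
        induction t with
        | zero => simp
        | add x y hx hy => simp only [TensorProduct.tmul_add, map_add, hx, hy]
        | tmul x y => simp
    rw [key, hw']
    simp

end Coalg

end Groth.Agent.ChevalleyPID
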